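import Mathlib
import Cfsg.Agent.Block.CycPair
import Cfsg.Agent.Block.Homocyclic
import Cfsg.Agent.Transfer.Frobenius
import Cfsg.Agent.Transfer.Control

/-! Group theory for Glauberman's characterization of the Suzuki groups: `N(P)` controls fusion of
elements of `P` and centralizers of elements of order `p` are `p`-nilpotent. -/

set_option autoImplicit false
set_option linter.unusedSectionVars false
set_option linter.style.haveILetI false

namespace Cfsg.Agent.Glau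

open Cfsg Cfsg.Agent Subgroup Cfsg.Agent.PLocal Cfsg.Agent.PLocal.Amb Cfsg.Agent.Block

variable {G : Type*} [Group G] {p : ℕ}

/-- Hypotheses (a) and (b). -/
structure Hyp (P : Sylow p G) : Prop where
  ha : ∀ x ∈ (P : Subgroup G), ∀ y ∈ (P : Subgroup G), (∃ g : G, g * x * g⁻¹ = y) →
    ∃ n ∈ 𝐍[(P : Subgroup G)], n * x * n⁻¹ = y
  hb : ∀ x ∈ (P : Subgroup G), orderOf x = p →
    HasNormalPComplement p (centralizer ({x} : Set G))

theorem mem_cent {x g : G} : g ∈ centralizer ({x} : Set G) ↔ g * x * g⁻¹ = x := by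
  rw [mem_centralizer_singleton_iff, mul_inv_eq_iff_eq_mul]

theorem ncard_conj_mul [Finite G] (K : Subgroup G) (x : G) :
    Set.ncard {a | ∃ g ∈ K, g * x * g⁻¹ = a} *
      Nat.card (K ⊓ centralizer {x} : Subgroup G) = Nat.card K := by
  let : MulAction K G := MulAction.compHom G (MulAut.conj.comp K.subtype)
  have hs : ∀ (h : K) (x : G), h • x = h * x * (h : G)⁻¹ := fun _ _ => rfl
  have h1 : MulAction.stabilizer K x = (centralizer {x}).subgroupOf K := by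
    ext h
    rw [MulAction.mem_stabilizer_iff, hs, mem_subgroupOf, mem_cent]
  have h2 : MulAction.orbit K x = {a | ∃ g ∈ K, g * x * g⁻¹ = a} :=
    Set.ext fun a => ⟨fun ⟨g, e⟩ => ⟨g, g.2, e⟩, fun ⟨g, hg, e⟩ => ⟨⟨g, hg⟩, e⟩⟩
  rw [← (MulAction.stabilizer K x).card_mul_index, MulAction.index_stabilizer, h1, h2,
    Grp.card_subgroupOf, inf_comm, mul_comm]

variable [Finite G] [hp : Fact p.Prime] {P : Sylow p G}

theorem exists_center_ne_one {Q : Subgroup G} (hQ : IsPGroup p Q) (h1 : Q ≠ ⊥) :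
    ∃ z ∈ Q, z ∈ 𝐂[Q] ∧ orderOf z = p := by
  have h2 := inf_centralizer_ne_bot hQ hQ le_normalizer h1
  obtain ⟨Z, hZ, hZc⟩ := exists_card_eq_prime (hQ.to_inf_left (K := 𝐂[Q])) h2
  obtain ⟨z, hz⟩ := exists_prime_orderOf_dvd_card' (G := Z) p (hZc ▸ dvd_rfl)
  exact ⟨z, (hZ z.2).1, (hZ z.2).2, (orderOf_coe z).trans hz⟩

namespace Hyp

theorem nilp (h : Hyp P) {w : G} (hw : w ∈ (P : Subgroup G)) (h1 : w ≠ 1) :
    HasNormalPComplement p (centralizer ({w} : Set G)) := by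
  obtain ⟨k, hk⟩ := orderOf_eq_pow_of_mem P.isPGroup' hw
  have hd : p ∣ orderOf w := by
    rw [hk]
    refine dvd_pow_self p ?_
    rintro rfl
    exact h1 (orderOf_eq_one_iff.1 (by simpa using hk))
  have h2 := orderOf_pow_orderOf_div (orderOf_pos w).ne' hd
  refine Transfer.HasNormalPComplement.of_le (h.hb _ (pow_mem hw _) h2) fun g hg => ?_
  rw [mem_centralizer_singleton_iff] at hg ⊢
  exact (Commute.pow_right hg _).eq

theorem nilp' (h : Hyp P) {w : G} (hw : ∃ k, orderOf w = p ^ k) (h1 : w ≠ 1) :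
    HasNormalPComplement p (centralizer ({w} : Set G)) := by
  obtain ⟨g, -, hg⟩ := (isSyl_top P).exists_cj_le (orderOf_eq_pow_iff_isPGroup.1 hw) le_top
  have h2 := h.nilp (hg (conj_mem_cj g (mem_zpowers w))) (by simpa using h1)
  have h3 := Transfer.HasNormalPComplement.map h2 (MulAut.conj g⁻¹).toMonoidHom
  rw [centralizer_singleton_conj] at h3
  have h4 := cj_inv_cj g (centralizer ({w} : Set G))
  exact h4 ▸ h3

theorem isSyl_cent (h : Hyp P) {w : G} (hw : w ∈ (P : Subgroup G)) :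
    IsSyl p ((P : Subgroup G) ⊓ centralizer {w}) (centralizer {w}) := by
  have hQ : IsPGroup p ((P : Subgroup G) ⊓ centralizer {w} : Subgroup G) :=
    P.isPGroup'.to_inf_left
  obtain ⟨T, hT, hle⟩ := exists_isSyl_ge hQ inf_le_right
  obtain ⟨g, -, hg⟩ := (isSyl_top P).exists_cj_le hT.pgrp le_top
  have hwT : w ∈ T := hle ⟨hw, mem_centralizer_singleton_iff.2 rfl⟩
  obtain ⟨n, hn, e⟩ := h.ha w hw _ (hg (conj_mem_cj g hwT)) ⟨g, rfl⟩
  have hc : n⁻¹ * g ∈ centralizer ({w} : Set G) := by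
    rw [mem_cent]
    calc _ = n⁻¹ * (g * w * g⁻¹) * n := by group
      _ = w := by rw [← e]; group
  refine hT.of_card_ge hQ inf_le_right ?_
  rw [← card_cj (n⁻¹ * g) T]
  refine card_le_of_le (le_inf ?_ (cj_le_of_mem hT.le hc))
  rw [cj_mul]
  exact cj_le_of_mem_normalizer hg (inv_mem hn)

theorem mem_cent_of_coprime (h : Hyp P) {w n : G} (hw : w ∈ (P : Subgroup G)) (h1 : w ≠ 1)
    (hn : n ∈ 𝐍[(P : Subgroup G)]) (hc : n ∈ centralizer ({w} : Set G))
    (ho : (orderOf n).Coprime p) : n ∈ 𝐂[(P : Subgroup G)] := by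
  have hP : (P : Subgroup G) ≠ ⊥ := fun e => h1 (by simpa [e] using hw)
  obtain ⟨z, hz, hzc, hzo⟩ := exists_center_ne_one P.isPGroup' hP
  have h2 : n ∈ 𝐂[(P : Subgroup G) ⊓ centralizer {w}] :=
    Transfer.HasNormalPComplement.mem_centralizer_of_le (h.nilp hw h1) P.isPGroup'.to_inf_left
      inf_le_right hc (le_normalizer_inf (zpowers_le.2 hn) (zpowers_le.2 (le_normalizer hc))
        (mem_zpowers n)) ho
  have h3 : n * z = z * n :=
    (h2 z ⟨hz, mem_centralizer_singleton_iff.2 (hzc w hw).symm⟩).symm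
  exact Transfer.HasNormalPComplement.mem_centralizer_of_le (h.hb z hz hzo) P.isPGroup'
    (fun g hg => mem_centralizer_singleton_iff.2 (hzc g hg)) (mem_centralizer_singleton_iff.2 h3)
    hn ho

theorem mem_D (h : Hyp P) {w n : G} (hw : w ∈ (P : Subgroup G)) (h1 : w ≠ 1)
    (hn : n ∈ 𝐍[(P : Subgroup G)]) (hc : n ∈ centralizer ({w} : Set G)) :
    n ∈ (P : Subgroup G) ⊔ 𝐂[(P : Subgroup G)] := by
  rw [← pPart_mul_pReg p n]
  refine mul_mem (mem_sup_left ?_) (mem_sup_right ?_)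
  · exact mem_sylow_of_mem_normalizer P (orderOf_pPart p n) (pPart_mem hn)
  · exact h.mem_cent_of_coprime hw h1 (pReg_mem hn) (pReg_mem hc)
      (not_dvd_iff_coprime.1 (not_dvd_orderOf_pReg p n))

end Hyp

/-- The inertial index `|N(P) : P C(P)|`. -/
noncomputable def ee (P : Sylow p G) : ℕ :=
  ((P : Subgroup G) ⊔ 𝐂[(P : Subgroup G)]).relIndex 𝐍[(P : Subgroup G)]

theorem D_le (P : Sylow p G) : (P : Subgroup G) ⊔ 𝐂[(P : Subgroup G)] ≤ 𝐍[(P : Subgroup G)] :=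
  sup_le le_normalizer (centralizer_le_normalizer' _)

theorem ee_mul (P : Sylow p G) :
    ee P * Nat.card ((P : Subgroup G) ⊔ 𝐂[(P : Subgroup G)] : Subgroup G) =
      Nat.card 𝐍[(P : Subgroup G)] := by
  rw [ee, mul_comm, ← Grp.card_subgroupOf_of_le (D_le P)]
  exact card_mul_index _

theorem ee_pos (P : Sylow p G) : 0 < ee P := by
  have := ee_mul P
  have h2 : 0 < Nat.card 𝐍[(P : Subgroup G)] := Nat.card_pos
  rw [← this] at h2
  exact Nat.pos_of_mul_pos_right h2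

theorem exists_conj_of_mem_D {d : G} (hd : d ∈ (P : Subgroup G) ⊔ 𝐂[(P : Subgroup G)]) :
    ∃ v ∈ (P : Subgroup G), ∀ x ∈ (P : Subgroup G), v * x * v⁻¹ = d * x * d⁻¹ := by
  obtain ⟨a, ha, b, hb, rfl⟩ :=
    (mem_sup_of_le_normalizer_right (le_normalizer_centralizer le_normalizer)).1 hd
  refine ⟨a, ha, fun x hx => ?_⟩
  have := hb x hx
  calc a * x * a⁻¹ = a * (x * b) * b⁻¹ * a⁻¹ := by group
    _ = _ := by rw [this]; group

namespace Hyp

theorem ncard_mul (h : Hyp P) {w : G} (hw : w ∈ (P : Subgroup G)) (h1 : w ≠ 1) :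
    Set.ncard {a | a ∈ (P : Subgroup G) ∧ IsConj w a} *
      p ^ (Nat.card (centralizer ({w} : Set G))).factorization p = ee P * Nat.card P := by
  have e1 : {a | a ∈ (P : Subgroup G) ∧ IsConj w a} =
      {a | ∃ g ∈ 𝐍[(P : Subgroup G)], g * w * g⁻¹ = a} := by
    ext a
    constructor
    · rintro ⟨ha, hc⟩
      exact h.ha w hw a ha (isConj_iff.1 hc)
    · rintro ⟨g, hg, rfl⟩
      exact ⟨conj_mem_of_mem_normalizer hg hw, isConj_iff.2 ⟨g, rfl⟩⟩
  have e2 : {a | ∃ g ∈ (P : Subgroup G) ⊔ 𝐂[(P : Subgroup G)], g * w * g⁻¹ = a} =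
      {a | ∃ g ∈ (P : Subgroup G), g * w * g⁻¹ = a} := by
    ext a
    constructor
    · rintro ⟨g, hg, rfl⟩
      obtain ⟨v, hv, e⟩ := exists_conj_of_mem_D hg
      exact ⟨v, hv, e w hw⟩
    · rintro ⟨g, hg, rfl⟩
      exact ⟨g, mem_sup_left hg, rfl⟩
  have e3 : 𝐍[(P : Subgroup G)] ⊓ centralizer {w} =
      ((P : Subgroup G) ⊔ 𝐂[(P : Subgroup G)]) ⊓ centralizer {w} :=
    le_antisymm (fun n hn => ⟨h.mem_D hw h1 hn.1 hn.2, hn.2⟩) (inf_le_inf_right _ (D_le P))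
  have h2 := ncard_conj_mul 𝐍[(P : Subgroup G)] w
  have h3 := ncard_conj_mul ((P : Subgroup G) ⊔ 𝐂[(P : Subgroup G)]) w
  have h4 := ncard_conj_mul (P : Subgroup G) w
  rw [e3, ← ee_mul, ← h3, e2, ← mul_assoc] at h2
  rw [← (h.isSyl_cent hw).card_eq_pow, e1, Nat.eq_of_mul_eq_mul_right Nat.card_pos h2,
    mul_assoc, h4]

theorem ncard_center (h : Hyp P) {w : G} (hw : w ∈ (P : Subgroup G)) (h1 : w ≠ 1)
    (hc : w ∈ 𝐂[(P : Subgroup G)]) :
    Set.ncard {a | a ∈ (P : Subgroup G) ∧ IsConj w a} = ee P := by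
  have h2 := h.ncard_mul hw h1
  rw [← (h.isSyl_cent hw).card_eq_pow, inf_eq_left.2
    (fun g hg => mem_centralizer_singleton_iff.2 (hc g hg))] at h2
  exact Nat.eq_of_mul_eq_mul_right Nat.card_pos h2

theorem mem_of_isConj (h : Hyp P) {Z : Subgroup G} (hZ : Z ≤ (P : Subgroup G))
    (hN : 𝐍[(P : Subgroup G)] ≤ 𝐍[Z]) {z w : G} (hz : z ∈ Z) (hw : w ∈ (P : Subgroup G))
    (hc : IsConj z w) : w ∈ Z := by
  obtain ⟨n, hn, rfl⟩ := h.ha z (hZ hz) w hw (isConj_iff.1 hc)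
  exact conj_mem_of_mem_normalizer (hN hn) hz

theorem mem_cj_of_isConj (h : Hyp P) {Z : Subgroup G} (hZ : Z ≤ (P : Subgroup G))
    (hN : 𝐍[(P : Subgroup G)] ≤ 𝐍[Z]) {z w g : G} (hz : z ∈ Z) (hw : w ∈ cj(g, (P : Subgroup G)))
    (hc : IsConj z w) : w ∈ cj(g, Z) := by
  rw [mem_cj] at hw ⊢
  exact h.mem_of_isConj hZ hN hz hw (hc.trans (isConj_iff.2 ⟨g⁻¹, by rw [inv_inv]⟩))

/-- A conjugate of an element of `Z(P)` centralizes every `p`-subgroup containing it. -/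
theorem mem_cent_of_isConj (h : Hyp P) {z w : G} (hz : z ∈ (P : Subgroup G))
    (hzc : z ∈ 𝐂[(P : Subgroup G)]) (hc : IsConj z w) {Q : Subgroup G} (hQ : IsPGroup p Q)
    (hw : w ∈ Q) : w ∈ 𝐂[Q] := by
  obtain ⟨g, -, hg⟩ := (isSyl_top P).exists_le_cj hQ le_top
  have h1 := h.mem_cj_of_isConj (Z := (P : Subgroup G) ⊓ 𝐂[(P : Subgroup G)]) inf_le_left
    (le_normalizer_inf le_rfl (normalizer_le_normalizer_centralizer _)) ⟨hz, hzc⟩ (hg hw) hc
  rw [cj_inf, ← centralizer_cj] at h1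
  exact centralizer_anti hg h1.2

theorem normal_of_ee (h : Hyp P) (he : ee P = 1) (hO : pPrimeCore p G = ⊥) :
    (P : Subgroup G).Normal := by
  have h1 : HasNormalPComplement p G := by
    refine Transfer.hasNormalPComplement_of_no_fusion P fun x hx g hg => ?_
    obtain ⟨n, hn, e⟩ := h.ha x hx _ hg ⟨g, rfl⟩
    obtain ⟨v, hv, e'⟩ := exists_conj_of_mem_D (relIndex_eq_one.1 he hn)
    exact ⟨v, hv, (e' x hx).trans e⟩
  obtain ⟨N, hN, hc⟩ := (Transfer.hasNormalPComplement_iff_sylow P).1 h1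
  have h2 : N = ⊥ := le_bot_iff.1 (hO ▸ le_sSup ⟨hN, Transfer.coprime_card_of_isComplement'_sylow hc⟩)
  rw [h2, isComplement'_bot_left] at hc
  rw [hc]
  infer_instance

end Hyp

theorem exists_lift (hH : IsPSolvable p G) {x y : G} (hx : ∃ k, orderOf x = p ^ k)
    (hy : ∃ k, orderOf y = p ^ k) (hxc : ∀ Q : Subgroup G, IsPGroup p Q → x ∈ Q → x ∈ 𝐂[Q]) :
    ∃ Q : Subgroup G, IsPGroup p Q ∧ y ∈ Q ∧ ∃ x' ∈ Q,
      ∀ i : ℕ, IsConj (x' * y ^ i) (pPart p (x * y ^ i)) := by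
  set N := pPrimeCore p G
  have hN : (Nat.card N).Coprime p := Grp.pPrimeCore_coprime p G
  have hC := isPConstrained_iff.1 (isPConstrained_of_isPSolvable hH)
  have hO := Grp.pCore_isPGroup p (G ⧸ N)
  have hle : ∀ T : Subgroup G, IsSyl p T ⊤ → pCore p (G ⧸ N) ≤ T.map (QuotientGroup.mk' N) := by
    intro T hT
    have h1 := hT.map (QuotientGroup.mk' N)
    rw [map_top_of_surjective _ (QuotientGroup.mk'_surjective N)] at h1
    exact h1.le_of_le_normalizer hO le_top le_normalizer_of_normal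
  have hx1 : (x : G ⧸ N) ∈ pCore p (G ⧸ N) := by
    obtain ⟨T, hT, hxT⟩ := exists_isSyl_ge (orderOf_eq_pow_iff_isPGroup.1 hx) le_top
    refine hC fun w hw => ?_
    obtain ⟨t, ht, rfl⟩ := hle T hT hw
    have := hxc T hT.pgrp (hxT (mem_zpowers x)) t ht
    simpa using congrArg (QuotientGroup.mk' N) this
  obtain ⟨T, hT, hyT⟩ := exists_isSyl_ge (orderOf_eq_pow_iff_isPGroup.1 hy) le_top
  obtain ⟨x', hx', e⟩ := hle T hT hx1
  have hy' := hyT (mem_zpowers y)
  refine ⟨T, hT.pgrp, hy', x', hx', fun i => CycPair.isConj_pPart_of_mk_eq N hN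
    (orderOf_eq_pow_of_mem hT.pgrp (mul_mem hx' (pow_mem hy' i))) ?_⟩
  simp only [QuotientGroup.mk_mul, QuotientGroup.mk_pow]
  rw [← e]
  rfl

namespace Hyp

theorem pair (h : Hyp P) {Z : Subgroup G} (hZ : Z ≤ (P : Subgroup G))
    (hZc : Z ≤ 𝐂[(P : Subgroup G)]) (hN : 𝐍[(P : Subgroup G)] ≤ 𝐍[Z]) {u v x y : G} (hu : u ∈ Z)
    (hv : v ∈ Z) (hx : IsConj u x) (hy : IsConj v y)
    (hs : IsPSolvable p (closure ({x, y} : Set G))) :
    ∃ g : G, y ∈ cj(g, Z) ∧ ∃ x' ∈ cj(g, Z),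
      ∀ i : ℕ, IsConj (x' * y ^ i) (pPart p (x * y ^ i)) := by
  set H := closure ({x, y} : Set G)
  have hxo : ∃ k, orderOf x = p ^ k :=
    orderOf_eq_of_isConj hx ▸ orderOf_eq_pow_of_mem P.isPGroup' (hZ hu)
  have hyo : ∃ k, orderOf y = p ^ k :=
    orderOf_eq_of_isConj hy ▸ orderOf_eq_pow_of_mem P.isPGroup' (hZ hv)
  obtain ⟨Q, hQ, hyQ, x', hx', hi⟩ := exists_lift hs
    (x := ⟨x, subset_closure (by simp)⟩) (y := ⟨y, subset_closure (by simp)⟩)
    (by rw [← orderOf_coe]; exact hxo) (by rw [← orderOf_coe]; exact hyo) (fun Q hQ hxQ w hw =>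
      Subtype.ext (h.mem_cent_of_isConj (hZ hu) (hZc hu) hx (hQ.map H.subtype)
        (mem_map_subtype.2 hxQ) w (mem_map_subtype.2 hw)))
  have hi' : ∀ i : ℕ, IsConj ((x' : G) * y ^ i) (pPart p (x * y ^ i)) := fun i => by
    have := H.subtype.map_isConj (hi i)
    rw [← pPart_map] at this
    simpa using this
  obtain ⟨g, -, hg⟩ := (isSyl_top P).exists_le_cj (hQ.map H.subtype) le_top
  have h0 := hi' 0
  rw [pow_zero, mul_one, mul_one, pPart_eq_self_iff.2 hxo] at h0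
  exact ⟨g, h.mem_cj_of_isConj hZ hN hv (hg (mem_map_subtype.2 hyQ)) hy, x',
    h.mem_cj_of_isConj hZ hN hu (hg (mem_map_subtype.2 hx')) (hx.trans h0.symm), hi'⟩

theorem sup_cent_eq_top (h : Hyp P) (hP : normalClosure ((P : Subgroup G) : Set G) = ⊤)
    (K : Subgroup G) [hK : K.Normal] {z : G} (hz : z ∈ (P : Subgroup G))
    (hzc : z ∈ 𝐂[(P : Subgroup G)]) (hzK : z ∈ K) : K ⊔ centralizer {z} = ⊤ := by
  let L : Subgroup G :=
    { carrier := {g | ∀ a, IsConj z a → ∃ k ∈ K, g * a * g⁻¹ = k * a * k⁻¹}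
      one_mem' := fun a _ => ⟨1, K.one_mem, rfl⟩
      mul_mem' := by
        intro g g' hg hg' a ha
        obtain ⟨k', hk', e'⟩ := hg' a ha
        obtain ⟨k, hk, e⟩ := hg a ha
        refine ⟨g * k' * g⁻¹ * k, mul_mem (hK.conj_mem _ hk' g) hk, ?_⟩
        calc g * g' * a * (g * g')⁻¹ = g * (g' * a * g'⁻¹) * g⁻¹ := by group
          _ = g * k' * g⁻¹ * (g * a * g⁻¹) * (g * k' * g⁻¹)⁻¹ := by rw [e']; group
          _ = _ := by rw [e]; group
      inv_mem' := by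
        intro g hg a ha
        obtain ⟨k, hk, e⟩ := hg a ha
        refine ⟨g⁻¹ * k⁻¹ * g, hK.conj_mem' _ (inv_mem hk) g, ?_⟩
        calc g⁻¹ * a * g⁻¹⁻¹ = g⁻¹ * k⁻¹ * (k * a * k⁻¹) * k * g := by group
          _ = _ := by rw [← e]; group }
  haveI : L.Normal := ⟨fun g hg c a ha => by
    obtain ⟨k, hk, e⟩ := hg (c⁻¹ * a * c) (ha.trans (isConj_iff.2 ⟨c⁻¹, by rw [inv_inv]⟩))
    refine ⟨c * k * c⁻¹, hK.conj_mem _ hk c, ?_⟩
    calc c * g * c⁻¹ * a * (c * g * c⁻¹)⁻¹ = c * (g * (c⁻¹ * a * c) * g⁻¹) * c⁻¹ := by group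
      _ = _ := by rw [e]; group⟩
  have hPL : (P : Subgroup G) ≤ L := by
    intro g hg a ha
    have haK : a ∈ K := by
      obtain ⟨c, rfl⟩ := isConj_iff.1 ha
      exact hK.conj_mem _ hzK c
    have hao : ∃ k, orderOf a = p ^ k :=
      orderOf_eq_of_isConj ha ▸ orderOf_eq_pow_of_mem P.isPGroup' hz
    have hS := (isSyl_top P).inf_of_le (N := K) le_top le_normalizer_of_normal
    obtain ⟨k, hk, hle⟩ := hS.exists_cj_le (orderOf_eq_pow_iff_isPGroup.1 hao) (zpowers_le.2 haK)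
    have h1 := (hle (conj_mem_cj k (mem_zpowers a))).1
    have h2 := h.mem_cent_of_isConj hz hzc (ha.trans (isConj_iff.2 ⟨k, rfl⟩)) P.isPGroup' h1 g hg
    refine ⟨g * k⁻¹ * g⁻¹ * k, mul_mem (hK.conj_mem _ (inv_mem hk) g) hk, ?_⟩
    calc g * a * g⁻¹ = g * k⁻¹ * g⁻¹ * (g * (k * a * k⁻¹)) * k * g⁻¹ := by group
      _ = _ := by rw [h2]; group
  have hL : L = ⊤ := top_le_iff.1 (hP ▸ normalClosure_le_normal hPL)
  refine top_le_iff.1 fun g _ => ?_
  obtain ⟨k, hk, e⟩ := (hL ▸ mem_top g : g ∈ L) z (IsConj.refl z)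
  have h1 : k⁻¹ * g ∈ centralizer ({z} : Set G) := by
    rw [mem_cent]
    calc _ = k⁻¹ * (g * z * g⁻¹) * k := by group
      _ = z := by rw [e]; group
  simpa using mul_mem (mem_sup_left hk : k ∈ K ⊔ centralizer {z}) (mem_sup_right h1)

theorem exists_comm (h : Hyp P) {n : G} (hn : n ∈ 𝐍[(P : Subgroup G)])
    (hD : n ∉ (P : Subgroup G) ⊔ 𝐂[(P : Subgroup G)]) {Z : Subgroup G} (hZ : Z ≤ (P : Subgroup G))
    (hnZ : n ∈ 𝐍[Z]) {y : G} (hy : y ∈ Z) : ∃ w ∈ Z, w⁻¹ * (n * w * n⁻¹) = y := by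
  let f : Z → Z := fun w => ⟨(w : G)⁻¹ * (n * w * n⁻¹),
    mul_mem (inv_mem w.2) (conj_mem_of_mem_normalizer hnZ w.2)⟩
  have hf : Function.Injective f := by
    intro a b e
    have e' : (a : G)⁻¹ * (n * a * n⁻¹) = (b : G)⁻¹ * (n * b * n⁻¹) := congrArg Subtype.val e
    by_contra hne
    refine hD (h.mem_D (w := a * (b : G)⁻¹) (hZ (mul_mem a.2 (inv_mem b.2))) ?_ hn ?_)
    · rw [Ne, mul_inv_eq_one]
      exact fun e => hne (Subtype.ext e)
    · rw [mem_cent]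
      calc _ = a * ((a : G)⁻¹ * (n * a * n⁻¹)) * (n * b * n⁻¹)⁻¹ := by group
        _ = _ := by rw [e']; group
  obtain ⟨w, hw⟩ := Finite.surjective_of_injective hf ⟨y, hy⟩
  exact ⟨w, w.2, congrArg Subtype.val hw⟩

theorem exists_not_mem_D (he : ee P ≠ 1) : ∃ n ∈ 𝐍[(P : Subgroup G)],
    n ∉ (P : Subgroup G) ⊔ 𝐂[(P : Subgroup G)] ∧ (orderOf n).Coprime p := by
  obtain ⟨n, hn, hD⟩ := SetLike.not_le_iff_exists.1 (mt relIndex_eq_one.2 he)
  refine ⟨pReg p n, pReg_mem hn, fun h1 => hD ?_, not_dvd_iff_coprime.1 (not_dvd_orderOf_pReg p n)⟩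
  rw [← pPart_mul_pReg p n]
  exact mul_mem (mem_sup_left (mem_sylow_of_mem_normalizer P (orderOf_pPart p n) (pPart_mem hn))) h1

theorem eq_top (h : Hyp P) (hP : normalClosure ((P : Subgroup G) : Set G) = ⊤) (he : ee P ≠ 1)
    (K : Subgroup G) [hK : K.Normal] {z : G} (hz : z ∈ (P : Subgroup G))
    (hzc : z ∈ 𝐂[(P : Subgroup G)]) (h1 : z ≠ 1) (hzK : z ∈ K) : K = ⊤ := by
  have h2 := h.sup_cent_eq_top hP K hz hzc hzK
  have h3 : HasNormalPComplement p (G ⧸ K) := by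
    have h4 := Transfer.HasNormalPComplement.map (h.nilp hz h1) (QuotientGroup.mk' K)
    have h5 : (centralizer ({z} : Set G)).map (QuotientGroup.mk' K) = ⊤ := by
      have := congrArg (Subgroup.map (QuotientGroup.mk' K)) h2
      rwa [Subgroup.map_sup, QuotientGroup.map_mk'_self, bot_sup_eq,
        map_top_of_surjective _ (QuotientGroup.mk'_surjective K)] at this
    rw [h5] at h4
    exact Transfer.hasNormalPComplement_top_iff.1 h4
  obtain ⟨n, hn, hD, ho⟩ := exists_not_mem_D he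
  have h4 := Transfer.HasNormalPComplement.mem_centralizer h3
    (P.isPGroup'.map (QuotientGroup.mk' K)) (le_normalizer_map _ (mem_map_of_mem _ hn))
    (Transfer.coprime_orderOf_map _ ho)
  refine top_le_iff.1 (hP ▸ normalClosure_le_normal fun y hy => ?_)
  obtain ⟨w, hw, rfl⟩ := h.exists_comm hn hD le_rfl hn hy
  have h5 := h4 _ (mem_map_of_mem _ hw)
  simp only [QuotientGroup.mk'_apply] at h5
  rw [SetLike.mem_coe, ← QuotientGroup.eq_one_iff]
  simp only [QuotientGroup.mk_mul, QuotientGroup.mk_inv]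
  rw [← h5]
  group

theorem cent_le (h : Hyp P) {H : Subgroup G} [H.Normal] (hH : (P : Subgroup G) ≤ H) {x : G}
    (hx : x ∈ (P : Subgroup G)) (h1 : x ≠ 1) :
    centralizer ({x} : Set G) ≤ H ⊔ 𝐂[(P : Subgroup G)] := by
  have key : ∀ w ∈ (P : Subgroup G), w ≠ 1 → ∀ g ∈ centralizer ({w} : Set G),
      ∃ k ∈ H, ∃ c ∈ 𝐂[(P : Subgroup G) ⊓ centralizer {w}], g = k * c := by
    intro w hw hw1 g hg
    have hS := (h.isSyl_cent hw).mono (K := H ⊓ centralizer {w}) (inf_le_inf_right _ hH)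
      inf_le_right
    obtain ⟨k, hk, c, hc, e⟩ := hS.frattini (g := g) (le_normalizer_inf
      (le_normalizer_of_normal) le_normalizer hg)
    have hcw : c ∈ centralizer ({w} : Set G) := by
      have := mul_mem (inv_mem (mem_inf.1 hk).2) hg
      rwa [e, inv_mul_cancel_left] at this
    have h2 : pPart p c ∈ (P : Subgroup G) ⊓ centralizer {w} :=
      (h.isSyl_cent hw).le_of_normalizes (isPGroup_zpowers_pPart p c)
        (zpowers_le.2 (pPart_mem hcw)) (zpowers_le.2 (pPart_mem hc)) (mem_zpowers _)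
    refine ⟨k * pPart p c, mul_mem hk.1 (hH h2.1), pReg p c, ?_, by
      rw [mul_assoc, pPart_mul_pReg, e]⟩
    exact Transfer.HasNormalPComplement.mem_centralizer_of_le (h.nilp hw hw1)
      P.isPGroup'.to_inf_left inf_le_right (pReg_mem hcw) (pReg_mem hc)
      (not_dvd_iff_coprime.1 (not_dvd_orderOf_pReg p c))
  have hP : (P : Subgroup G) ≠ ⊥ := fun e => h1 (by simpa [e] using hx)
  obtain ⟨z, hz, hzc, hzo⟩ := exists_center_ne_one P.isPGroup' hP
  have hz1 : z ≠ 1 := by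
    rintro rfl
    exact hp.out.one_lt.ne (by simpa using hzo)
  intro g hg
  obtain ⟨k, hk, c, hc, rfl⟩ := key x hx h1 g hg
  obtain ⟨k', hk', c', hc', rfl⟩ := key z hz hz1 c (mem_centralizer_singleton_iff.2
    (hc z ⟨hz, mem_centralizer_singleton_iff.2 (hzc x hx).symm⟩).symm)
  rw [inf_eq_left.2 (fun g hg => mem_centralizer_singleton_iff.2 (hzc g hg))] at hc'
  exact mul_mem (mem_sup_left hk) (mul_mem (mem_sup_left hk') (mem_sup_right hc'))

theorem subtype (h : Hyp P) {H : Subgroup G} [H.Normal] (hH : (P : Subgroup G) ≤ H) :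
    Hyp (P.subtype hH) := by
  constructor
  · intro x hx y hy ⟨g, hg⟩
    have hx' : (x : G) ∈ (P : Subgroup G) := hx
    have hy' : (y : G) ∈ (P : Subgroup G) := hy
    have hg' : (g : G) * x * (g : G)⁻¹ = y := congrArg Subtype.val hg
    by_cases h1 : x = 1
    · exact ⟨1, one_mem _, by rw [← hg, h1]; simp⟩
    obtain ⟨n, hn, e⟩ := h.ha x hx' y hy' ⟨g, hg'⟩
    have h2 : (g : G)⁻¹ * n ∈ centralizer ({(x : G)} : Set G) := by
      rw [mem_cent]
      calc _ = (g : G)⁻¹ * (n * x * n⁻¹) * g := by group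
        _ = x := by rw [e, ← hg']; group
    obtain ⟨k, hk, c, hc, e'⟩ := (mem_sup_of_le_normalizer_left le_normalizer_of_normal).1
      (h.cent_le hH hx' (fun e => h1 (Subtype.ext e)) h2)
    have h3 : (g : G) * k = n * c⁻¹ := by
      rw [eq_mul_inv_iff_mul_eq, mul_assoc, ← e', mul_inv_cancel_left]
    refine ⟨⟨g * k, mul_mem g.2 hk⟩, ?_, Subtype.ext ?_⟩
    · rw [Sylow.coe_subtype, ← subgroupOf_normalizer_eq hH, mem_subgroupOf]
      change (g : G) * k ∈ _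
      rw [h3]
      exact mul_mem hn (inv_mem (centralizer_le_normalizer' _ hc))
    · change (g : G) * k * x * ((g : G) * k)⁻¹ = y
      rw [h3, ← e]
      calc _ = n * c⁻¹ * (x * c) * n⁻¹ := by group
        _ = _ := by rw [hc x hx']; group
  · intro x hx ho
    refine Transfer.HasNormalPComplement.of_injective (h.hb x hx (by rw [orderOf_coe, ho]))
      ((H.subtype.comp (centralizer {x}).subtype).codRestrict _ fun g => ?_) ?_
    · exact mem_centralizer_singleton_iff.2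
        (congrArg Subtype.val (mem_centralizer_singleton_iff.1 g.2))
    · intro a b e
      exact Subtype.ext (Subtype.ext (congrArg (fun t => (t.1 : G)) e))

end Hyp

end Cfsg.Agent.Glau
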