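import Mathlib
import Cfsg.Agent.Glau.Grp
import Cfsg.Agent.Block.Columns
import Cfsg.Agent.Char.ActIrr
import Cfsg.Agent.Char.Quot

/-! Characters of the principal block under Glauberman's hypotheses. -/

set_option autoImplicit false
set_option linter.unusedSectionVars false
set_option linter.style.haveILetI false

namespace Cfsg.Agent.Glau

open Cfsg Cfsg.Agent Subgroup Cfsg.Agent.PLocal Cfsg.Agent.PLocal.Amb Cfsg.Agent.Block
open Cfsg.Agent.Char
open scoped ComplexConjugate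

section Gen

variable {X : Type*} [Group X] [Fintype X]

theorem irr_mul_central {φ : X → ℂ} (hφ : IsIrrCharacter X φ) (g : X) {y : X}
    (hy : ∀ a, a * y = y * a) : φ 1 * φ (g * y) = φ g * φ y := by
  have h := irr_one_mul_sum_conj hφ g y
  have h2 : ∀ a, a * y * a⁻¹ = y := fun a => by rw [hy, mul_inv_cancel_right]
  simp only [h2, Finset.sum_const, Finset.card_univ, nsmul_eq_mul,
    Fintype.card_eq_nat_card] at h
  apply mul_left_cancel₀ (card_ne_zero X)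
  linear_combination h

theorem sum_norm_sq_comb (c : IrrCharacter X → ℕ) :
    ∑ w, ‖(∑ φ : IrrCharacter X, (c φ : ℂ) • (φ : X → ℂ)) w‖ ^ 2 =
      Nat.card X * ∑ φ, (c φ : ℝ) ^ 2 := by
  have h1 := (isCharacter_sum_nsmul_irr c).isGen.inner_self_eq_sum_sq (c := fun φ => (c φ : ℤ))
    (fun χ => by rw [classInner_sum_smul_irr]; simp)
  rw [classInner_self_eq_sum_normSq] at h1
  have h2 : (Nat.card X : ℝ)⁻¹ * ∑ w, ‖(∑ φ : IrrCharacter X, (c φ : ℂ) • (φ : X → ℂ)) w‖ ^ 2 =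
      ∑ φ, (c φ : ℝ) ^ 2 := by exact_mod_cast h1
  have h3 : (Nat.card X : ℝ) ≠ 0 := by exact_mod_cast Nat.card_pos.ne'
  rw [← h2]
  field_simp

end Gen

variable {G : Type*} [Group G] {p : ℕ} [Fintype G] [hp : Fact p.Prime] {P : Sylow p G}
  {M : Ideal AlgInt}

/-- The principal block as a finset. -/
noncomputable def B0 (M : Ideal AlgInt) (G : Type*) [Group G] [Finite G] :
    Finset (IrrCharacter G) := (Set.toFinite (principalBlock M G)).toFinset

theorem mem_B0 {χ : IrrCharacter G} : χ ∈ B0 M G ↔ χ ∈ principalBlock M G :=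
  Set.Finite.mem_toFinset _

open Classical in
/-- The nonidentity elements of a subgroup. -/
noncomputable def sharp (H : Subgroup G) : Finset G := Finset.univ.filter fun a => a ∈ H ∧ a ≠ 1

theorem mem_sharp {H : Subgroup G} {a : G} : a ∈ sharp H ↔ a ∈ H ∧ a ≠ 1 := by simp [sharp]

theorem sum_subgroup {β : Type*} [AddCommMonoid β] (H : Subgroup G) [Fintype H] (f : G → β) :
    ∑ w : H, f w = f 1 + ∑ w ∈ sharp H, f w := by
  classical
  rw [← Finset.sum_subtype (insert 1 (sharp H)) (p := (· ∈ H)) ?_ f,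
    Finset.sum_insert (by simp [mem_sharp])]
  intro x
  rw [Finset.mem_insert, mem_sharp]
  by_cases h : x = 1 <;> simp [h]

theorem card_sharp (H : Subgroup G) : ((sharp H).card : ℝ) = Nat.card H - 1 := by
  haveI := Fintype.ofFinite H
  have := sum_subgroup H (fun _ => (1 : ℝ))
  simp only [Finset.sum_const, Finset.card_univ, nsmul_eq_mul, mul_one,
    Fintype.card_eq_nat_card] at this
  linarith

theorem sum_ite_eq_ncard (s : Finset G) (q : G → Prop) [DecidablePred q] (c : ℂ) {T : Set G}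
    (h : ∀ a, a ∈ T ↔ a ∈ s ∧ q a) : ∑ a ∈ s, (if q a then c else 0) = T.ncard * c := by
  rw [← Finset.sum_filter, Finset.sum_const, nsmul_eq_mul, ← Set.ncard_coe_finset]
  congr 3
  ext a
  simp [h]

theorem sum_sharp_pow {H : Subgroup G} (hH : ∀ a ∈ H, a ^ p = 1) {i : ℕ} (hi : i ∈ Finset.Ico 1 p)
    (f : G → ℂ) : ∑ v ∈ sharp H, f (v ^ i) = ∑ v ∈ sharp H, f v := by
  obtain ⟨h1, h2⟩ := Finset.mem_Ico.1 hi
  have hc : i.Coprime p := (Nat.coprime_of_lt_prime (by omega) h2 hp.out).symm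
  obtain ⟨j, -, hj⟩ := Nat.exists_mul_mod_eq_one_of_coprime hc hp.out.one_lt
  have key : ∀ a ∈ H, a ^ (i * j) = a := fun a ha => by
    rw [pow_eq_pow_mod _ (hH a ha), hj, pow_one]
  refine Finset.sum_nbij' (· ^ i) (· ^ j) ?_ ?_ ?_ ?_ fun _ _ => rfl
  · intro a ha
    obtain ⟨h3, h4⟩ := mem_sharp.1 ha
    refine mem_sharp.2 ⟨pow_mem h3 i, fun e => h4 ?_⟩
    rw [← key a h3, pow_mul, e, one_pow]
  · intro a ha
    obtain ⟨h3, h4⟩ := mem_sharp.1 ha
    refine mem_sharp.2 ⟨pow_mem h3 j, fun e => h4 ?_⟩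
    rw [← key a h3, pow_mul', e, one_pow]
  · intro a ha
    simp only [← pow_mul, key a (mem_sharp.1 ha).1]
  · intro a ha
    simp only [← pow_mul', key a (mem_sharp.1 ha).1]

/-- The sum of `χ` over the nonidentity elements of `Z`. -/
noncomputable def sS (Z : Subgroup G) (χ : IrrCharacter G) : ℝ :=
  (∑ u ∈ sharp Z, (χ : G → ℂ) u).re

theorem coe_sS (Z : Subgroup G) (χ : IrrCharacter G) :
    (sS Z χ : ℂ) = ∑ u ∈ sharp Z, (χ : G → ℂ) u := by
  rw [sS, ← Complex.conj_eq_iff_re, map_sum]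
  refine Finset.sum_nbij' (·⁻¹) (·⁻¹) ?_ ?_ ?_ ?_ fun a _ => (χ.2.map_inv a).symm
  all_goals simp [mem_sharp]

namespace Hyp

theorem apply_pPart (h : Hyp P) (hM : IsPModular p M) {χ : IrrCharacter G} (hχ : χ ∈ B0 M G)
    {g : G} (hg : pPart p g ≠ 1) : (χ : G → ℂ) g = (χ : G → ℂ) (pPart p g) := by
  have h1 := h.nilp' (orderOf_pPart p g) hg
  have h2 := apply_mul_eq_of_mem_principal hM (orderOf_pPart p g) (mem_B0.1 hχ)
    (pResidual p _) (not_dvd_iff_coprime.2 (Transfer.hasNormalPComplement_iff_coprime.1 h1))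
    (y := 1) not_dvd_orderOf_one
    (v := ⟨pReg p g, pReg_mem (mem_centralizer_pPart p g)⟩)
    (Transfer.mem_pResidual_of_coprime (by
      rw [← orderOf_coe]
      exact not_dvd_iff_coprime.1 (not_dvd_orderOf_pReg p g)))
  simpa [pPart_mul_pReg] using h2

theorem kernel (h : Hyp P) (hM : IsPModular p M) {w : G} (hw : w ∈ sharp (P : Subgroup G))
    (g : G) [Decidable (IsConj w (pPart p g))] : ∑ χ ∈ B0 M G, (χ : G → ℂ) g * conj ((χ : G → ℂ) w) =
      if IsConj w (pPart p g) then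
        ((p ^ (Nat.card (centralizer ({w} : Set G))).factorization p : ℕ) : ℂ) else 0 := by
  obtain ⟨hw, h1⟩ := mem_sharp.1 hw
  have ho := orderOf_eq_pow_of_mem P.isPGroup' hw
  split_ifs with hc
  · have h2 := kernel_principal hM ho ho
    rw [if_pos (IsConj.refl w), lamB_of_hasNormalPComplement hM (h.nilp hw h1),
      finsum_mem_eq_finite_toFinset_sum _ (Set.toFinite _)] at h2
    rw [← h2]
    refine Finset.sum_congr rfl fun χ hχ => ?_
    rw [h.apply_pPart hM hχ (fun e => h1 (by simpa [e] using hc)),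
      χ.2.isClassFunction.eq_of_isConj hc]
  · rw [B0, ← finsum_mem_eq_finite_toFinset_sum]
    refine sum_mul_conj_eq_zero_of_val hM (val_blockCoeff_principal_le_one hM) ?_
    rw [pPart_eq_self_iff.2 ho]
    exact fun e => hc e.symm

theorem row_bound (h : Hyp P) (hM : IsPModular p M) {χ : IrrCharacter G} (hχ : χ ∈ B0 M G) :
    ∑ w ∈ sharp (P : Subgroup G), ‖(χ : G → ℂ) w‖ ^ 2 ≤ ee P * Nat.card P := by
  classical
  set R := ∑ w ∈ sharp (P : Subgroup G), ‖(χ : G → ℂ) w‖ ^ 2 with hR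
  have hR' : (R : ℂ) = ∑ w ∈ sharp (P : Subgroup G), (χ : G → ℂ) w * conj ((χ : G → ℂ) w) := by
    rw [hR]
    push_cast
    exact Finset.sum_congr rfl fun w _ => (Complex.mul_conj' _).symm
  let v : IrrCharacter G → ℂ := fun ψ =>
    ∑ w ∈ sharp (P : Subgroup G), (ψ : G → ℂ) w * conj ((χ : G → ℂ) w)
  have h1 : ∑ ψ ∈ B0 M G, v ψ * conj (v ψ) = ee P * Nat.card P * R := by
    simp only [v, map_sum, Finset.sum_mul_sum, map_mul, Complex.conj_conj]
    rw [Finset.sum_comm]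
    simp only [Finset.sum_comm (s := B0 M G)]
    rw [Finset.sum_comm, hR', Finset.mul_sum]
    refine Finset.sum_congr rfl fun w' hw' => ?_
    have h2 : ∀ w ∈ sharp (P : Subgroup G), ∑ ψ ∈ B0 M G, (ψ : G → ℂ) w * conj ((χ : G → ℂ) w) *
        (conj ((ψ : G → ℂ) w') * (χ : G → ℂ) w') = if IsConj w' w then
        ((p ^ (Nat.card (centralizer ({w'} : Set G))).factorization p : ℕ) : ℂ) *
          ((χ : G → ℂ) w' * conj ((χ : G → ℂ) w')) else 0 := by
      intro w hw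
      have h3 := h.kernel hM hw' w
      rw [pPart_eq_self_iff.2 (orderOf_eq_pow_of_mem P.isPGroup' (mem_sharp.1 hw).1)] at h3
      have h4 : ∑ ψ ∈ B0 M G, (ψ : G → ℂ) w * conj ((χ : G → ℂ) w) *
          (conj ((ψ : G → ℂ) w') * (χ : G → ℂ) w') =
          (∑ ψ ∈ B0 M G, (ψ : G → ℂ) w * conj ((ψ : G → ℂ) w')) *
            ((χ : G → ℂ) w' * conj ((χ : G → ℂ) w)) := by
        rw [Finset.sum_mul]
        exact Finset.sum_congr rfl fun _ _ => by ring
      rw [h4, h3]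
      split_ifs with hc
      · rw [χ.2.isClassFunction.eq_of_isConj hc]
      · simp
    obtain ⟨h5, h6⟩ := mem_sharp.1 hw'
    rw [Finset.sum_congr rfl h2, sum_ite_eq_ncard _ _ _
      (T := {a | a ∈ (P : Subgroup G) ∧ IsConj w' a}) fun a => ?_, ← mul_assoc]
    · congr 1
      exact_mod_cast h.ncard_mul h5 h6
    · rw [mem_sharp]
      exact ⟨fun e => ⟨⟨e.1, fun e' => h6 (by simpa [e'] using e.2)⟩, e.2⟩, fun e => ⟨e.1.1, e.2⟩⟩
  have h2 : ∑ ψ ∈ B0 M G, ‖v ψ‖ ^ 2 = ee P * Nat.card P * R := by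
    simp only [Complex.mul_conj'] at h1
    exact_mod_cast h1
  have h3 : ‖v χ‖ ^ 2 ≤ ∑ ψ ∈ B0 M G, ‖v ψ‖ ^ 2 :=
    Finset.single_le_sum (f := fun ψ => ‖v ψ‖ ^ 2) (fun _ _ => by positivity) hχ
  have h4 : v χ = R := hR'.symm
  have h5 : 0 ≤ R := Finset.sum_nonneg fun _ _ => by positivity
  rw [h2, h4, Complex.norm_real, Real.norm_of_nonneg h5, sq] at h3
  rcases h5.eq_or_lt with h6 | h6
  · rw [← h6]
    positivity
  · exact le_of_mul_le_mul_right h3 h6

theorem ee_le_orbit (h : Hyp P) {Z : Subgroup G} (hZ : Z ≤ (P : Subgroup G))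
    (hZc : Z ≤ 𝐂[(P : Subgroup G)]) (hN : 𝐍[(P : Subgroup G)] ≤ 𝐍[Z])
    {φ : IrrCharacter (P : Subgroup G)}
    (hφ : ∃ u : (P : Subgroup G), (u : G) ∈ Z ∧ φ.1 u ≠ φ.1 1) :
    ee P ≤ (MulAction.orbit 𝐍[(P : Subgroup G)] φ).ncard := by
  haveI := Fintype.ofFinite (P : Subgroup G)
  rw [← MulAction.index_stabilizer]
  refine Nat.le_of_dvd (Nat.pos_of_ne_zero index_ne_zero_of_finite) (index_dvd_of_le ?_)
  intro x hx
  by_contra hD
  obtain ⟨u, hu, hne⟩ := hφ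
  obtain ⟨w, hw, e⟩ := h.exists_comm x.2 hD hZ (hN x.2) hu
  have hw' := conj_mem_of_mem_normalizer (hN x.2) hw
  have hc : ∀ {a : G} (ha : a ∈ Z) (b : (P : Subgroup G)), b * ⟨a, hZ ha⟩ = ⟨a, hZ ha⟩ * b :=
    fun ha b => Subtype.ext (hZc ha b b.2)
  have h1 := irr_mul_central φ.2 (⟨w, hZ hw⟩ : (P : Subgroup G))⁻¹ (hc hw')
  have h2 := irr_mul_central φ.2 (⟨w, hZ hw⟩ : (P : Subgroup G))⁻¹ (hc hw)
  have h3 := (irr_smul_eq_iff x φ).1 hx ⟨w, hZ hw⟩ ⟨_, hZ hw'⟩ rfl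
  have h4 : (⟨w, hZ hw⟩ : (P : Subgroup G))⁻¹ * ⟨_, hZ hw'⟩ = u := Subtype.ext e
  rw [h4, h3, ← h2, inv_mul_cancel] at h1
  exact hne (mul_left_cancel₀ φ.2.one_ne_zero h1)

theorem deg_bound (h : Hyp P) (hM : IsPModular p M) {Z : Subgroup G} (hZ : Z ≤ (P : Subgroup G))
    (hZc : Z ≤ 𝐂[(P : Subgroup G)]) (hN : 𝐍[(P : Subgroup G)] ≤ 𝐍[Z]) {χ : IrrCharacter G}
    (hχ : χ ∈ B0 M G) (hk : ∃ u ∈ Z, (χ : G → ℂ) u ≠ (χ : G → ℂ) 1) :
    sS Z χ ≤ (√(Nat.card Z) - 1) * charDegree (χ : G → ℂ) := by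
  classical
  haveI := Fintype.ofFinite (P : Subgroup G)
  haveI := Fintype.ofFinite Z
  obtain ⟨c, hc, hsum⟩ := (χ.2.isCharacter.restrict (P : Subgroup G)).exists_coeff
  let I : IrrCharacter (P : Subgroup G) → Prop := fun φ =>
    ∀ u : (P : Subgroup G), (u : G) ∈ Z → φ.1 u = φ.1 1
  let c0 : IrrCharacter (P : Subgroup G) → ℕ := fun φ => if I φ then c φ else 0
  obtain ⟨m, hm, -⟩ : ∃ m : ℕ, (∑ φ : IrrCharacter (P : Subgroup G), (c0 φ : ℂ) • φ.1) 1 = m ∧
      True := by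
    obtain ⟨m, hm⟩ := (isCharacter_sum_nsmul_irr c0).exists_nat_one
    exact ⟨m, hm, trivial⟩
  have hval : ∀ w : (P : Subgroup G), (χ : G → ℂ) w = ∑ φ, (c φ : ℂ) * φ.1 w := fun w => by
    have := congrFun hsum w
    simpa using this
  have ha : ∀ u : (P : Subgroup G), (u : G) ∈ Z →
      (∑ φ : IrrCharacter (P : Subgroup G), (c0 φ : ℂ) • φ.1) u = m := by
    intro u hu
    rw [← hm]
    simp only [Finset.sum_apply, Pi.smul_apply, smul_eq_mul]
    refine Finset.sum_congr rfl fun φ _ => ?_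
    by_cases hI : I φ
    · rw [hI u hu]
    · simp [c0, hI]
  haveI hZn : (Z.subgroupOf (P : Subgroup G)).Normal := normal_subgroupOf' (le_normalizer.trans hN)
  haveI := Fintype.ofFinite (Z.subgroupOf (P : Subgroup G))
  have hcZ : Fintype.card (Z.subgroupOf (P : Subgroup G)) = Nat.card Z := by
    rw [Fintype.card_eq_nat_card, Grp.card_subgroupOf_of_le hZ]
  -- the sum over `Z`
  have hS : (χ : G → ℂ) 1 + sS Z χ = Nat.card Z * m := by
    rw [coe_sS, ← sum_subgroup Z, ← (subgroupOfEquivOfLe hZ).toEquiv.sum_comp]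
    have h1 : ∀ u : Z.subgroupOf (P : Subgroup G), (χ : G → ℂ) ((subgroupOfEquivOfLe hZ).toEquiv u)
        = ∑ φ, (c φ : ℂ) * φ.1 u := fun u => hval u
    simp only [h1]
    rw [Finset.sum_comm, ← hm]
    simp only [Finset.sum_apply, Pi.smul_apply, smul_eq_mul, Finset.mul_sum]
    refine Finset.sum_congr rfl fun φ _ => ?_
    rw [← Finset.mul_sum]
    by_cases hI : I φ
    · rw [Finset.sum_congr rfl fun u _ => hI u.1 u.2]
      simp only [c0, if_pos hI, Finset.sum_const, Finset.card_univ, hcZ, nsmul_eq_mul]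
      ring
    · rw [sum_normal_eq_zero φ.2 _ (by simpa [I, mem_subgroupOf] using hI)]
      simp [c0, hI]
  -- the `Z`-trivial part
  have h1 : (Nat.card Z : ℝ) * m ^ 2 ≤ Nat.card P * ∑ φ, (c0 φ : ℝ) ^ 2 := by
    rw [← sum_norm_sq_comb]
    have h2 := Finset.card_nsmul_le_sum (Finset.univ.filter fun u : (P : Subgroup G) => (u : G) ∈ Z)
      (fun w => ‖(∑ φ : IrrCharacter (P : Subgroup G), (c0 φ : ℂ) • φ.1) w‖ ^ 2) ((m : ℝ) ^ 2)
      fun u hu => by rw [ha u (Finset.mem_filter.1 hu).2]; simp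
    have h3 : (Finset.univ.filter fun u : (P : Subgroup G) => (u : G) ∈ Z).card = Nat.card Z := by
      rw [← hcZ, Fintype.card_subtype]
      rfl
    rw [h3, nsmul_eq_mul] at h2
    exact h2.trans (Finset.sum_le_univ_sum_of_nonneg fun _ => by positivity)
  -- the other part
  obtain ⟨φ₀, hφ₀, hc₀⟩ : ∃ φ, ¬ I φ ∧ c φ ≠ 0 := by
    by_contra! H
    obtain ⟨u, hu, hne⟩ := hk
    refine hne ((hval ⟨u, hZ hu⟩).trans ((hval 1).trans ?_).symm)
    refine Finset.sum_congr rfl fun φ _ => ?_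
    by_cases hI : I φ
    · rw [hI ⟨u, hZ hu⟩ hu]
    · simp [H φ hI]
  have h2 : (ee P : ℝ) + ∑ φ, (c0 φ : ℝ) ^ 2 ≤ ∑ φ, (c φ : ℝ) ^ 2 := by
    have h3 := h.ee_le_orbit hZ hZc hN (φ := φ₀) (by simpa [I] using hφ₀)
    have h4 : ∀ φ ∈ MulAction.orbit 𝐍[(P : Subgroup G)] φ₀, ¬ I φ ∧ c φ ≠ 0 := by
      rintro _ ⟨x, rfl⟩
      constructor
      · refine fun hI => hφ₀ fun u hu => ?_
        have h5 := conj_mem_of_mem_normalizer (hN x.2) hu
        rw [← irr_smul_apply_of_eq x φ₀ (g := u) (g' := ⟨_, hZ h5⟩) rfl, hI _ h5, irr_smul_one]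
      · have h5 := classInner_comp_mulEquiv ((P : Subgroup G).normalizerMonoidHom x⁻¹)
          (fun w : (P : Subgroup G) => (χ : G → ℂ) w) φ₀.1
        have h6 : (fun w => (χ : G → ℂ) (((P : Subgroup G).normalizerMonoidHom x⁻¹ w :
            (P : Subgroup G)) : G)) = fun w : (P : Subgroup G) => (χ : G → ℂ) w := by
          funext w
          rw [coe_normalizerMonoidHom_inv, χ.2.isClassFunction.conj']
        rw [h6, hc] at h5
        have h7 := (hc (x • φ₀)).symm.trans h5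
        exact fun e => hc₀ (by rw [← Nat.cast_injective (R := ℂ) h7]; exact e)
    have h5 : ∀ φ, (if φ ∈ MulAction.orbit 𝐍[(P : Subgroup G)] φ₀ then (1 : ℝ) else 0) +
        (c0 φ : ℝ) ^ 2 ≤ (c φ : ℝ) ^ 2 := by
      intro φ
      split_ifs with h6
      · have h7 : (1 : ℝ) ≤ c φ := by exact_mod_cast Nat.pos_of_ne_zero (h4 φ h6).2
        simp only [c0, if_neg (h4 φ h6).1]
        push_cast
        nlinarith
      · by_cases hI : I φ <;> simp [c0, hI]
    have h6 := Finset.sum_le_sum fun φ (_ : φ ∈ Finset.univ) => h5 φ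
    rw [Finset.sum_add_distrib, Finset.sum_boole] at h6
    rw [Set.ncard_eq_toFinset_card', Set.toFinset_card, Fintype.card_subtype] at h3
    have h7 : (ee P : ℝ) ≤ (Finset.univ.filter
      (· ∈ MulAction.orbit 𝐍[(P : Subgroup G)] φ₀)).card := by exact_mod_cast h3
    linarith
  have h3 := sum_norm_sq_comb c
  rw [← hsum, sum_subgroup (P : Subgroup G) (fun w => ‖(χ : G → ℂ) w‖ ^ 2),
    norm_one_eq_charDegree χ.2.isCharacter] at h3
  have h4 := h.row_bound hM hχ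
  have hP : (0 : ℝ) < Nat.card P := by exact_mod_cast Nat.card_pos
  have h5 : (Nat.card Z : ℝ) * m ^ 2 ≤ (charDegree (χ : G → ℂ) : ℝ) ^ 2 := by nlinarith
  have h6 : (charDegree (χ : G → ℂ) : ℝ) + sS Z χ = Nat.card Z * m := by
    rw [← coe_charDegree_irr] at hS
    exact_mod_cast hS
  have h7 : √(Nat.card Z) * √(Nat.card Z) = Nat.card Z := Real.mul_self_sqrt (by positivity)
  have h8 : √(Nat.card Z) * m ≤ charDegree (χ : G → ℂ) := by
    refine abs_le_of_sq_le_sq' ?_ (by positivity) |>.2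
    rw [mul_pow, sq, h7]
    exact h5
  have h9 := mul_le_mul_of_nonneg_left h8 (Real.sqrt_nonneg (Nat.card Z))
  rw [← mul_assoc, h7] at h9
  linarith

theorem sum_sS (h : Hyp P) (hM : IsPModular p M) {Z : Subgroup G} (hZ : Z ≤ (P : Subgroup G))
    (hZc : Z ≤ 𝐂[(P : Subgroup G)]) (hN : 𝐍[(P : Subgroup G)] ≤ 𝐍[Z]) (g : G)
    [Decidable (∃ u ∈ sharp Z, IsConj u (pPart p g))] :
    ∑ χ ∈ B0 M G, (χ : G → ℂ) g * sS Z χ =
      ((if ∃ u ∈ sharp Z, IsConj u (pPart p g) then ee P * Nat.card P else 0 : ℝ) : ℂ) := by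
  classical
  have h1 : ∀ χ : IrrCharacter G, (sS Z χ : ℂ) = ∑ u ∈ sharp Z, conj ((χ : G → ℂ) u) := fun χ => by
    rw [← map_sum, ← coe_sS, Complex.conj_ofReal]
  simp only [h1, Finset.mul_sum]
  rw [Finset.sum_comm]
  have h2 : ∀ u ∈ sharp Z, ∑ χ ∈ B0 M G, (χ : G → ℂ) g * conj ((χ : G → ℂ) u) =
      if IsConj u (pPart p g) then (Nat.card P : ℂ) else 0 := by
    intro u hu
    obtain ⟨h3, h4⟩ := mem_sharp.1 hu
    rw [h.kernel hM (mem_sharp.2 ⟨hZ h3, h4⟩), ← (h.isSyl_cent (hZ h3)).card_eq_pow, inf_eq_left.2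
      (fun g hg => mem_centralizer_singleton_iff.2 (hZc h3 g hg))]
  rw [Finset.sum_congr rfl h2]
  split_ifs with hc
  · obtain ⟨u, hu, hc⟩ := hc
    obtain ⟨h3, h4⟩ := mem_sharp.1 hu
    rw [sum_ite_eq_ncard _ _ _ (T := {a | a ∈ (P : Subgroup G) ∧ IsConj u a}) fun a => ?_,
      h.ncard_center (hZ h3) h4 (hZc h3)]
    · push_cast
      rfl
    · rw [mem_sharp]
      exact ⟨fun e => ⟨⟨h.mem_of_isConj hZ hN h3 e.1 e.2, fun e' => h4 (by simpa [e'] using e.2)⟩,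
        e.2.symm.trans hc⟩, fun e => ⟨hZ e.1.1, hc.trans e.2.symm⟩⟩
  · push Not at hc
    rw [Finset.sum_eq_zero fun u hu => if_neg (hc u hu)]
    simp

theorem ineq (h : Hyp P) (hP : normalClosure ((P : Subgroup G) : Set G) = ⊤) (he : ee P ≠ 1)
    (hc : ∀ x y : G, orderOf x = p → orderOf y = p → IsPSolvable p (closure ({x, y} : Set G)))
    {Z : Subgroup G} (hZ : Z ≤ (P : Subgroup G)) (hZc : Z ≤ 𝐂[(P : Subgroup G)])
    (hN : 𝐍[(P : Subgroup G)] ≤ 𝐍[Z]) (hZp : ∀ a ∈ Z, a ^ p = 1) (hZ1 : Z ≠ ⊥) :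
    ((p : ℝ) - 2) * (ee P * Nat.card P) * (Nat.card Z - 1) ^ 2 ≤ (p - 1) * ((Nat.card Z - 1) ^ 3 +
      (√(Nat.card Z) - 1) * ((Nat.card Z - 1) * (ee P * Nat.card P) - (Nat.card Z - 1) ^ 2)) := by
  classical
  obtain ⟨M, hM⟩ := exists_isPModular hp.out
  set E : ℝ := ee P * Nat.card P with hE
  let T : G → ℝ := fun g => if ∃ u ∈ sharp Z, IsConj u (pPart p g) then E else 0
  have hT : ∀ g, ∑ χ ∈ B0 M G, (χ : G → ℂ) g * sS Z χ = T g := fun g => h.sum_sS hM hZ hZc hN g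
  have hE0 : 0 ≤ E := by positivity
  have hord : ∀ u ∈ sharp Z, orderOf u = p := fun u hu =>
    orderOf_eq_prime (hZp u (mem_sharp.1 hu).1) (mem_sharp.1 hu).2
  have hp1 : ((Finset.Ico 1 p).card : ℝ) = p - 1 := by
    rw [Nat.card_Ico, Nat.cast_sub hp.out.one_le, Nat.cast_one]
  -- lower bound
  have h1 : ∀ u ∈ sharp Z, ∀ v ∈ sharp Z, ∀ a : G,
      (p - 2) * E ≤ ∑ i ∈ Finset.Ico 1 p, T (u * (a * v ^ i * a⁻¹)) := by
    intro u hu v hv a
    have hy : orderOf (a * v * a⁻¹) = p := by rw [orderOf_conj_eq, hord v hv]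
    obtain ⟨g, hyg, x', hx', hi⟩ := h.pair hZ hZc hN (mem_sharp.1 hu).1 (mem_sharp.1 hv).1
      (IsConj.refl u) (isConj_iff.2 ⟨a, rfl⟩) (hc _ _ (hord u hu) hy)
    have h2 : ((Finset.Ico 1 p).filter fun i => x' * (a * v * a⁻¹) ^ i = 1).card ≤ 1 := by
      refine Finset.card_le_one.2 fun i hi j hj => ?_
      simp only [Finset.mem_filter, Finset.mem_Ico] at hi hj
      exact pow_injOn_Iio_orderOf (x := a * v * a⁻¹) (by simpa [hy] using hi.1.2)
        (by simpa [hy] using hj.1.2) (mul_left_cancel (hi.2.trans hj.2.symm))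
    have h3 := Finset.card_filter_add_card_filter_not (s := Finset.Ico 1 p)
      fun i => x' * (a * v * a⁻¹) ^ i = 1
    have h4 : (p : ℝ) - 2 ≤
        ((Finset.Ico 1 p).filter fun i => ¬ x' * (a * v * a⁻¹) ^ i = 1).card := by
      have h5 : (((Finset.Ico 1 p).filter fun i => x' * (a * v * a⁻¹) ^ i = 1).card : ℝ) ≤ 1 := by
        exact_mod_cast h2
      rw [← h3] at hp1
      push_cast at hp1
      linarith
    refine (mul_le_mul_of_nonneg_right h4 hE0).trans ?_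
    rw [← nsmul_eq_mul]
    refine (Finset.card_nsmul_le_sum _ (fun i => T (u * (a * v ^ i * a⁻¹))) _ fun i hi' => ?_).trans
      (Finset.sum_le_sum_of_subset_of_nonneg (Finset.filter_subset _ _) fun _ _ _ => ?_)
    · refine (if_pos ⟨g⁻¹ * (x' * (a * v * a⁻¹) ^ i) * g, mem_sharp.2
        ⟨mem_cj.1 (mul_mem hx' (pow_mem hyg i)), ?_⟩, ?_⟩).ge
      · intro e
        refine (Finset.mem_filter.1 hi').2 ?_
        calc _ = g * (g⁻¹ * (x' * (a * v * a⁻¹) ^ i) * g) * g⁻¹ := by group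
          _ = 1 := by rw [e]; group
      · rw [← conj_pow]
        exact (isConj_iff.2 ⟨g, by group⟩).trans (hi i)
    · simp only [T]
      split_ifs
      exacts [hE0, le_rfl]
  have hG : (0 : ℝ) < Nat.card G := by exact_mod_cast Nat.card_pos
  have h2 : (Nat.card Z - 1) * ((Nat.card Z - 1) * (Nat.card G * ((p - 2) * E))) ≤
      ∑ u ∈ sharp Z, ∑ v ∈ sharp Z, ∑ a : G, ∑ i ∈ Finset.Ico 1 p,
        T (u * (a * v ^ i * a⁻¹)) := by
    rw [← card_sharp, ← nsmul_eq_mul]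
    refine Finset.card_nsmul_le_sum _ _ _ fun u hu => ?_
    rw [← nsmul_eq_mul]
    refine Finset.card_nsmul_le_sum _ _ _ fun v hv => ?_
    rw [← Fintype.card_eq_nat_card, ← nsmul_eq_mul]
    exact Finset.card_nsmul_le_sum _ _ _ fun a _ => h1 u hu v hv a
  -- the character formula
  have hd : ∀ χ : IrrCharacter G, (0 : ℝ) < charDegree (χ : G → ℂ) := fun χ => by
    exact_mod_cast charDegree_irr_pos χ
  have h3 : ∑ u ∈ sharp Z, ∑ v ∈ sharp Z, ∑ a : G, ∑ i ∈ Finset.Ico 1 p,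
      T (u * (a * v ^ i * a⁻¹)) =
      (p - 1) * (Nat.card G * ∑ χ ∈ B0 M G, sS Z χ ^ 3 / charDegree (χ : G → ℂ)) := by
    have h4 : ∀ i ∈ Finset.Ico 1 p, ∑ u ∈ sharp Z, ∑ v ∈ sharp Z, ∑ a : G,
        T (u * (a * v ^ i * a⁻¹)) =
        Nat.card G * ∑ χ ∈ B0 M G, sS Z χ ^ 3 / charDegree (χ : G → ℂ) := by
      intro i hi
      apply Complex.ofReal_injective
      push_cast
      simp only [← hT, Finset.sum_comm (t := B0 M G), Finset.mul_sum]
      refine Finset.sum_congr rfl fun χ _ => ?_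
      have h5 : ∀ u v : G, ∑ a : G, (χ : G → ℂ) (u * (a * v * a⁻¹)) * sS Z χ =
          (χ : G → ℂ) u * (χ : G → ℂ) v * (Nat.card G * sS Z χ / (χ : G → ℂ) 1) := by
        intro u v
        have h6 := irr_one_mul_sum_conj χ.2 u v
        have h7 := χ.2.one_ne_zero
        rw [← Finset.sum_mul]
        field_simp
        linear_combination h6 * sS Z χ
      simp only [h5, ← Finset.sum_mul, ← Finset.mul_sum]
      rw [sum_sharp_pow hZp hi, ← coe_sS, coe_charDegree_irr]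
      ring
    rw [← hp1, ← nsmul_eq_mul, ← Finset.sum_const, ← Finset.sum_congr rfl h4]
    simp only [Finset.sum_comm (s := Finset.Ico 1 p)]
  have h4 : ∑ χ ∈ B0 M G, sS Z χ ^ 2 = (Nat.card Z - 1) * E := by
    apply Complex.ofReal_injective
    have h5 : ∀ u ∈ sharp Z, T u = E := fun u hu => if_pos ⟨u, hu, by
      rw [pPart_eq_self_iff.2 ⟨1, by rw [hord u hu, pow_one]⟩]⟩
    rw [← card_sharp, ← nsmul_eq_mul, ← Finset.sum_const, ← Finset.sum_congr rfl h5]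
    push_cast
    simp only [← hT]
    rw [Finset.sum_comm]
    refine Finset.sum_congr rfl fun χ _ => ?_
    rw [← Finset.sum_mul, ← coe_sS, sq]
  have h1B : irrOne G ∈ B0 M G := mem_B0.2 (irrOne_mem_principal hM)
  have h5 : sS Z (irrOne G) = Nat.card Z - 1 := by
    simp [sS, irrOne_apply, card_sharp]
  have h6 : (charDegree (irrOne G : G → ℂ) : ℝ) = 1 := by
    exact_mod_cast charDegree_const_one (G := G)
  have h7 : ∑ χ ∈ (B0 M G).erase (irrOne G), sS Z χ ^ 3 / charDegree (χ : G → ℂ) ≤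
      (√(Nat.card Z) - 1) * ∑ χ ∈ (B0 M G).erase (irrOne G), sS Z χ ^ 2 := by
    rw [Finset.mul_sum]
    refine Finset.sum_le_sum fun χ hχ => ?_
    obtain ⟨h8, h9⟩ := Finset.mem_erase.1 hχ
    obtain ⟨⟨z, hz⟩, hz1⟩ := ne_bot_iff_exists_ne_one.1 hZ1
    have h10 := h.deg_bound hM hZ hZc hN h9 ⟨z, hz, fun e => h8 (Subtype.ext
      (eq_one_of_charKer_eq_top χ.2 (h.eq_top hP he _ (hZ hz) (hZc hz)
        (fun e => hz1 (Subtype.ext e)) ((mem_charKer_irr χ).2 e))))⟩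
    rw [div_le_iff₀ (hd χ)]
    nlinarith [sq_nonneg (sS Z χ)]
  rw [← Finset.add_sum_erase _ _ h1B, h5] at h4
  rw [h3, ← Finset.add_sum_erase _ _ h1B, h5, h6] at h2
  have h8 : (0 : ℝ) ≤ p - 1 := by
    rw [← hp1]
    positivity
  refine le_of_mul_le_mul_left ?_ hG
  have h9 : ∑ χ ∈ (B0 M G).erase (irrOne G), sS Z χ ^ 2 =
      (Nat.card Z - 1) * E - (Nat.card Z - 1) ^ 2 := by linarith
  rw [h9] at h7
  have h10 := mul_le_mul_of_nonneg_left h7 (mul_nonneg h8 hG.le)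
  nlinarith

end Hyp

end Cfsg.Agent.Glau
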