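import Mathlib
import Cfsg.Agent.Glau.Char

/-! Glauberman's hypotheses for an odd prime force a normal Sylow subgroup. -/

set_option autoImplicit false
set_option linter.unusedSectionVars false
set_option linter.style.haveILetI false

namespace Cfsg.Agent.Glau

open Cfsg Cfsg.Agent Subgroup Cfsg.Agent.PLocal Cfsg.Agent.PLocal.Amb Cfsg.Agent.Block

theorem arith {p E z : ℝ} (hz : 1 < z)
    (h : (p - 2) * E * (z - 1) ^ 2 ≤ (p - 1) * ((z - 1) ^ 3 +
      (√z - 1) * ((z - 1) * E - (z - 1) ^ 2))) :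
    ∃ s : ℝ, 1 < s ∧ s ^ 2 = z ∧ E * ((p - 2) * s - 1) ≤ (p - 1) * (s ^ 2 - 1) * s := by
  have h1 : √z ^ 2 = z := Real.sq_sqrt (by linarith)
  have h2 : 1 < √z := by
    rw [Real.lt_sqrt (by norm_num)]
    simpa using hz
  refine ⟨√z, h2, h1, ?_⟩
  generalize √z = s at *
  subst h1
  have h3 : 0 < (s - 1) ^ 2 * (s + 1) := by
    have : 0 < s - 1 := by linarith
    positivity
  refine le_of_mul_le_mul_left ?_ h3
  nlinarith

variable {G : Type*} [Group G] {p : ℕ}

/-- `Ω₁(Z(P))`. -/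
def omZ (p : ℕ) (P : Subgroup G) : Subgroup G where
  carrier := {a | a ∈ P ∧ a ∈ 𝐂[P] ∧ a ^ p = 1}
  one_mem' := ⟨one_mem _, one_mem _, one_pow _⟩
  mul_mem' := by
    rintro a b ⟨h1, h2, h3⟩ ⟨h4, h5, h6⟩
    refine ⟨mul_mem h1 h4, mul_mem h2 h5, ?_⟩
    rw [Commute.mul_pow (h5 a h1), h3, h6, one_mul]
  inv_mem' := by
    rintro a ⟨h1, h2, h3⟩
    exact ⟨inv_mem h1, inv_mem h2, by rw [inv_pow, h3, inv_one]⟩

theorem omZ_le (P : Subgroup G) : omZ p P ≤ P := fun _ h => h.1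

theorem omZ_le_cent (P : Subgroup G) : omZ p P ≤ 𝐂[P] := fun _ h => h.2.1

theorem le_normalizer_omZ [Finite G] (P : Subgroup G) : 𝐍[P] ≤ 𝐍[omZ p P] :=
  fun _ hn => mem_normalizer_of_cj_le (cj_le_iff_forall.2 fun _ hx =>
    ⟨conj_mem_of_mem_normalizer hn hx.1,
      conj_mem_of_mem_normalizer (normalizer_le_normalizer_centralizer _ hn) hx.2.1,
      by rw [conj_pow, hx.2.2]; simp⟩)

variable [Finite G] [hp : Fact p.Prime] {P : Sylow p G}

theorem exists_mem_omZ {Q : Subgroup G} (hQ : IsPGroup p Q) (h1 : Q ≠ ⊥) :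
    ∃ z ∈ omZ p Q, orderOf z = p := by
  obtain ⟨z, h2, h3, h4⟩ := exists_center_ne_one hQ h1
  exact ⟨z, ⟨h2, h3, h4 ▸ pow_orderOf_eq_one z⟩, h4⟩

theorem ne_one_of_orderOf {z : G} (h : orderOf z = p) : z ≠ 1 := by
  rintro rfl
  exact hp.out.one_lt.ne (by simpa using h)

theorem Hyp.le_normalizer_zpowers (h : Hyp P) (he : ee P = 2) {x : G} (hx : x ∈ (P : Subgroup G))
    (hxc : x ∈ 𝐂[(P : Subgroup G)]) (h1 : x ≠ 1) : 𝐍[(P : Subgroup G)] ≤ 𝐍[zpowers x] := by
  intro n hn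
  refine mem_normalizer_of_cj_le ?_
  rw [cj_le_iff, zpowers_le, mem_cj, inv_inv]
  by_cases h2 : n * x * n⁻¹ = x
  · rw [h2]
    exact mem_zpowers x
  have hD : n ∉ (P : Subgroup G) ⊔ 𝐂[(P : Subgroup G)] := fun hD => by
    obtain ⟨v, hv, e⟩ := exists_conj_of_mem_D hD
    exact h2 (by rw [← e x hx, hxc v hv, mul_inv_cancel_right])
  have hx' := conj_mem_of_mem_normalizer hn hx
  have h3 : n * (n * x * n⁻¹) * n⁻¹ = x := by
    by_contra h4
    have h5 := h.ncard_center hx h1 hxc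
    have h6 : ({x, n * x * n⁻¹, n * (n * x * n⁻¹) * n⁻¹} : Set G).ncard = 3 :=
      Set.ncard_eq_three.2 ⟨_, _, _, Ne.symm h2, Ne.symm h4, fun e => h2
        (by simpa using e.symm), rfl⟩
    have h7 := Set.ncard_le_ncard (s := {x, n * x * n⁻¹, n * (n * x * n⁻¹) * n⁻¹})
      (t := {a | a ∈ (P : Subgroup G) ∧ IsConj x a}) (by
        rintro a (rfl | rfl | rfl)
        · exact ⟨hx, IsConj.refl _⟩
        · exact ⟨hx', isConj_iff.2 ⟨n, rfl⟩⟩
        · exact ⟨conj_mem_of_mem_normalizer hn hx', isConj_iff.2 ⟨n * n, by group⟩⟩)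
    omega
  have h4 : n * x * n⁻¹ * x = 1 := by
    by_contra h4
    refine hD (h.mem_D (mul_mem hx' hx) h4 hn (mem_cent.2 ?_))
    calc _ = n * (n * x * n⁻¹) * n⁻¹ * (n * x * n⁻¹) := by group
      _ = _ := by rw [h3, hxc _ hx']
  rw [eq_inv_of_mul_eq_one_left h4]
  exact inv_mem (mem_zpowers x)

theorem Hyp.isCyclic (h : Hyp P) (hp2 : p ≠ 2) (hP : normalClosure ((P : Subgroup G) : Set G) = ⊤)
    (he : ee P ≠ 1)
    (hc : ∀ x y : G, orderOf x = p → orderOf y = p → IsPSolvable p (closure ({x, y} : Set G))) :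
    IsCyclic (P : Subgroup G) := by
  haveI := Fintype.ofFinite G
  by_cases hP1 : (P : Subgroup G) = ⊥
  · rw [hP1]
    infer_instance
  obtain ⟨x, hx, hxo⟩ := exists_mem_omZ P.isPGroup' hP1
  have hx1 := ne_one_of_orderOf hxo
  have he2 : 2 ≤ ee P := by
    have := ee_pos P
    omega
  have hdvd : ∀ Z : Subgroup G, x ∈ Z → p ∣ Nat.card Z := fun Z hZ => hxo ▸ orderOf_dvd_natCard Z hZ
  have key : ∀ Z : Subgroup G, Z ≤ omZ p P → 𝐍[(P : Subgroup G)] ≤ 𝐍[Z] → x ∈ Z →
      ∃ s : ℝ, 1 < s ∧ s ^ 2 = Nat.card Z ∧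
        (ee P * Nat.card P) * ((p - 2) * s - 1) ≤ (p - 1) * (s ^ 2 - 1) * s := by
    intro Z hZ hN hxZ
    refine arith ?_ (h.ineq hP he hc (hZ.trans (omZ_le _)) (hZ.trans (omZ_le_cent _)) hN
      (fun a ha => (hZ ha).2.2) fun e => hx1 (by simpa [e] using hxZ))
    exact_mod_cast hp.out.one_lt.trans_le (Nat.le_of_dvd Nat.card_pos (hdvd Z hxZ))
  obtain ⟨s, hs1, hs2, hs3⟩ := key _ le_rfl (le_normalizer_omZ _) hx
  have hzn : (Nat.card (omZ p (P : Subgroup G)) : ℝ) ≤ Nat.card P := by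
    exact_mod_cast card_le_of_le (omZ_le _)
  have he2' : (2 : ℝ) ≤ ee P := by exact_mod_cast he2
  have hp3 : p = 3 := by
    by_contra h3
    have h5 : (5 : ℝ) ≤ p := by exact_mod_cast hp.out.five_le_of_ne_two_of_ne_three hp2 h3
    have h6 : 2 * s ^ 2 ≤ ee P * Nat.card P := by nlinarith
    have h7 : 0 ≤ (p - 2) * s - 1 := by nlinarith
    have h8 := (mul_le_mul_of_nonneg_right h6 h7).trans hs3
    have h9 : 0 < s ^ 2 := by positivity
    have h10 : 0 ≤ s ^ 2 * ((p - 3) * s - 2) := mul_nonneg h9.le (by nlinarith)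
    nlinarith
  subst hp3
  have hE : ∀ {s E : ℝ}, 1 < s → E * ((((3 : ℕ) : ℝ) - 2) * s - 1) ≤
      (((3 : ℕ) : ℝ) - 1) * (s ^ 2 - 1) * s → E ≤ 2 * s * (s + 1) := by
    intro s E h1 h2
    refine le_of_mul_le_mul_right ?_ (sub_pos.2 h1)
    push_cast at h2
    nlinarith
  rcases he2.eq_or_lt with he3 | he3
  · obtain ⟨t, ht1, ht2, ht3⟩ := key (zpowers x) (zpowers_le.2 hx)
      (h.le_normalizer_zpowers he3.symm hx.1 hx.2.1 hx1) (mem_zpowers x)
    rw [Nat.card_zpowers, hxo] at ht2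
    have h1 := hE ht1 ht3
    rw [← he3] at h1
    push_cast at h1 ht2
    have h2 : (Nat.card P : ℝ) < 5 := by nlinarith
    have h3 : Nat.card P < 5 := by exact_mod_cast h2
    have h4 := hdvd _ hx.1
    have h5 : 0 < Nat.card P := Nat.card_pos
    exact isCyclic_of_prime_card (p := 3) (by omega)
  · exfalso
    have h1 := hE hs1 hs3
    have h2 : (3 : ℝ) ≤ ee P := by exact_mod_cast he3
    have h3 : 3 * s ^ 2 ≤ ee P * Nat.card P := by nlinarith
    have h4 : (Nat.card (omZ 3 (P : Subgroup G)) : ℝ) ≤ 4 := by nlinarith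
    have h5 : Nat.card (omZ 3 (P : Subgroup G)) ≤ 4 := by exact_mod_cast h4
    have h6 := hdvd _ hx
    have h7 := Set.ncard_le_ncard (s := {a | a ∈ (P : Subgroup G) ∧ IsConj x a})
      (t := (sharp (omZ 3 (P : Subgroup G)) : Set G)) (fun a ha => mem_sharp.2
        ⟨h.mem_of_isConj (omZ_le _) (le_normalizer_omZ _) hx ha.1 ha.2,
          fun e => hx1 (by simpa [e] using ha.2)⟩)
    rw [h.ncard_center hx.1 hx1 hx.2.1, Set.ncard_coe_finset] at h7
    have h8 := card_sharp (omZ 3 (P : Subgroup G))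
    have h9 : (sharp (omZ 3 (P : Subgroup G))).card + 1 = Nat.card (omZ 3 (P : Subgroup G)) := by
      exact_mod_cast (eq_sub_iff_add_eq.1 h8)
    omega

universe u

theorem normal_of_odd (hp2 : p ≠ 2) (G : Type u) [Group G] [Finite G] (hO : pPrimeCore p G = ⊥)
    (P : Sylow p G) (h : Hyp P)
    (hc : ∀ x y : G, orderOf x = p → orderOf y = p → IsPSolvable p (closure ({x, y} : Set G))) :
    (P : Subgroup G).Normal := by
  induction hn : Nat.card G using Nat.strong_induction_on generalizing G with | _ n ih => ?_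
  subst hn
  by_cases hP : normalClosure ((P : Subgroup G) : Set G) = ⊤
  · by_cases he : ee P = 1
    · exact h.normal_of_ee he hO
    have h1 := h.isCyclic hp2 hP he hc
    have h2 := centralizer_pCore_le_of_isPSolvable (CycPair.isPSolvable_of_pairs G
      (CycPair.isCyclic_of_isPGroup P h1) hc) hO
    have h3 : pCore p G ≤ (P : Subgroup G) := (isSyl_top P).le_of_le_normalizer
      (Grp.pCore_isPGroup p G) le_top le_normalizer_of_normal
    have h4 : (P : Subgroup G) = pCore p G := le_antisymm (fun a ha => h2 fun b hb =>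
      congrArg Subtype.val ((IsCyclic.isMulCommutative (α := (P : Subgroup G))).is_comm.comm
        ⟨b, h3 hb⟩ ⟨a, ha⟩)) h3
    rw [h4]
    infer_instance
  · set H := normalClosure ((P : Subgroup G) : Set G)
    have hH : (P : Subgroup G) ≤ H := le_normalClosure
    haveI := ih _ (Grp.card_lt_of_ne_top hP) H
      (by rw [Grp.pPrimeCore_eq_subgroupOf_of_normal, hO, bot_subgroupOf]) _ (h.subtype hH)
      (fun x y hx hy => by
        have h1 := hc x y (by rw [orderOf_coe]; exact hx) (by rw [orderOf_coe]; exact hy)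
        refine IsPSolvable.of_mulEquiv ?_ ((closure ({x, y} : Set H)).equivMapOfInjective _
          H.subtype_injective).symm
        rw [MonoidHom.map_closure, Set.image_pair]
        exact h1) rfl
    haveI := Sylow.characteristic_of_normal (P.subtype hH) this
    have h2 := ConjAct.normal_of_characteristic_of_normal (H := H)
      (K := (P.subtype hH : Subgroup H))
    rwa [Sylow.coe_subtype, map_subgroupOf_of_le hH] at h2

end Cfsg.Agent.Glau
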